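import Cfsg.Agent.UGT.HFAbs_m3
set_option linter.all false

/-!
# `2.L3(4)`: codes for fact (b4) (helper161)
-/

set_option autoImplicit false
set_option linter.constructorNameAsVariable false
set_option linter.unusedVariables false

namespace Cfsg.Agent.UGT.I34.Two.KS

open Subgroup
open Cfsg.Agent.SporadicA.FieldFour
open Cfsg.Agent.ONType.Psl (kap)
open Cfsg.Agent.StdL34 (trF fr Ty imgx)
open Cfsg.Agent.OddHalf.D9.L34
open scoped commutatorElement

/-! ### codes of automorphisms -/

/-- codes of the elements of a Sylow 2-subgroup of the automorphism group -/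
structure AC where
  a : F4
  b : F4
  c : F4
  e : Bool
  f : Bool
  deriving DecidableEq

theorem forall_AC {P : AC → Prop} : (∀ p, P p) ↔ ∀ a b c e f, P ⟨a, b, c, e, f⟩ :=
  ⟨fun h a b c e f => h _, fun h p => h p.a p.b p.c p.e p.f⟩

instance {P : AC → Prop} [DecidablePred P] : Decidable (∀ p, P p) :=
  decidable_of_iff _ forall_AC.symm

def acEquiv : AC ≃ F4 × F4 × F4 × Bool × Bool where
  toFun p := (p.a, p.b, p.c, p.e, p.f)
  invFun q := ⟨q.1, q.2.1, q.2.2.1, q.2.2.2.1, q.2.2.2.2⟩
  left_inv _ := rfl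
  right_inv _ := rfl

instance : Fintype AC := Fintype.ofEquiv _ acEquiv.symm

/-- the product -/
def am (x y : AC) : AC :=
  let q := ctau (x.e, x.f) ⟨y.a, y.b, y.c, false⟩
  ⟨q.a + x.a, q.b + x.b, x.a * q.b + q.c + x.c, xor x.e y.e, xor x.f y.f⟩

/-- commuting codes (Boolean) -/
def cmb (x y : AC) : Bool := decide (am x y = am y x)

/-- all codes -/
def allF : List F4 := [0, 1, F4.w, F4.v]

/-- number of codes commuting with `x` -/
def cnt (x : AC) : ℕ := (allF.map fun a => (allF.map fun b => (allF.map fun c =>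
  (if cmb x ⟨a, b, c, false, false⟩ then 1 else 0) + (if cmb x ⟨a, b, c, false, true⟩ then 1 else 0) +
  (if cmb x ⟨a, b, c, true, false⟩ then 1 else 0) + (if cmb x ⟨a, b, c, true, true⟩ then 1 else 0)).sum).sum).sum

end Cfsg.Agent.UGT.I34.Two.KS
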